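import Groth.Agent.L29.DCoh.EvalLocal
import Mathlib.Algebra.Homology.HomologySequenceLemmas
import Mathlib.Algebra.Homology.DerivedCategory.TStructure

/-!
Transport of the evaluation map along a truncated approximation, for an abstract tensor bifunctor.
-/

set_option autoImplicit false
set_option linter.style.haveILetI false
set_option backward.defeqAttrib.useBackward true
set_option backward.isDefEq.respectTransparency false
set_option backward.isDefEq.respectTransparency.types false

universe w v u v' u'

open CategoryTheory CategoryTheory.Limits CochainComplex Pretriangulated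

noncomputable section

namespace Groth.Lead.EvalInj

open Groth.L29.DC

theorem isIso_homologyMap_of_Q {C : Type*} [Category C] [Abelian C] [HasDerivedCategory C]
    {A B : CochainComplex C ℤ} (f : A ⟶ B) (h : IsIso (DerivedCategory.Q.map f)) (i : ℤ) :
    IsIso (HomologicalComplex.homologyMap f i) :=
  (NatIso.isIso_map_iff (DerivedCategory.homologyFunctorFactors C i) f).1
    (inferInstanceAs (IsIso ((DerivedCategory.homologyFunctor C i).map (DerivedCategory.Q.map f))))

theorem isZero_homology_of_isLE {C : Type*} [Category C] [Abelian C] [HasDerivedCategory C]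
    {A : CochainComplex C ℤ} {c : ℤ} (h : (DerivedCategory.Q.obj A).IsLE c) {i : ℤ} (hi : c < i) :
    IsZero (A.homology i) :=
  (DerivedCategory.isZero_of_isLE (DerivedCategory.Q.obj A) c i hi).of_iso
    ((DerivedCategory.homologyFunctorFactors C i).app A).symm

/-- transport along a morphism of short exact sequences with negligible middle terms -/
theorem isIso_first {C : Type*} [Category C] [Abelian C] {S S' : ShortComplex (CochainComplex C ℤ)}
    (hS : S.ShortExact) (hS' : S'.ShortExact) (φ : S ⟶ S') (i j : ℤ) (hij : i + 1 = j)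
    (h₁ : IsZero (S.X₂.homology i)) (h₂ : IsZero (S.X₂.homology j))
    (h₁' : IsZero (S'.X₂.homology i)) (h₂' : IsZero (S'.X₂.homology j))
    (h₃ : IsIso (HomologicalComplex.homologyMap φ.τ₃ i)) : IsIso (HomologicalComplex.homologyMap φ.τ₁ j) := by
  haveI := hS.isIso_δ i j hij h₁ h₂
  haveI := hS'.isIso_δ i j hij h₁' h₂'
  haveI : IsIso (hS.δ i j hij ≫ HomologicalComplex.homologyMap φ.τ₁ j) := by
    rw [HomologicalComplex.HomologySequence.δ_naturality φ hS hS' i j hij]
    infer_instance
  exact IsIso.of_isIso_comp_left (hS.δ i j hij) _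

section Main

variable {C : Type u} [Category.{v} C] [Abelian C] {B : Type u'} [Category.{v'} B] [Abelian B]
  [HasDerivedCategory.{w} B]
  {T : CochainComplex C ℤ ⥤ CochainComplex C ℤ ⥤ CochainComplex C ℤ}
  [∀ X, (T.obj X).IsLeftAdjoint] [∀ X, (T.flip.obj X).IsLeftAdjoint]
  {α : ∀ K L, T.flip.obj K ⋙ T.flip.obj L ≅ T.flip.obj ((T.obj K).obj L)}
  {R : C ⥤ B} [R.Additive] [PreservesFiniteLimits R] [PreservesFiniteColimits R] {e : B ⥤ C} (a : e ⊣ R)
  {KF : CochainComplex C ℤ → Prop} (s : EvalLocal.Setting T α R (e := e) KF)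
  (I J : CochainComplex C ℤ) [I.IsKInjective] [J.IsKInjective]

include a s in
/-- the evaluation map is bijective in a degree above the amplitude of the cone -/
theorem isIso_homologyMap_κ {K E : CochainComplex C ℤ} (g : E ⟶ K) (hE : KF E)
    (hP : EvalLocal.P T α R I J E) (c i j : ℤ) (hij : i + 1 = j) (hc : c < i)
    (hl : (DerivedCategory.Q.obj ((EvalLocal.rr R).obj ((T.obj (EvalAbs.Hh T I J)).obj (mappingCone g)))).IsLE c)
    (hr : (DerivedCategory.Q.obj ((EvalLocal.rr R).obj
      ((HomCx.H T.flip (EvalAbs.A T I (mappingCone g))).obj J))).IsLE c) :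
    IsIso (HomologicalComplex.homologyMap ((EvalLocal.rr R).map (EvalAbs.κ T α I J K)) j) := by
  let S := mappingCone.triangleRotateShortComplex g
  let σ := mappingCone.triangleRotateShortComplexSplitting g
  have hP₃ : EvalLocal.P T α R I J S.X₃ := (EvalLocal.P_shift a s I J hE).1 hP
  obtain ⟨w, h1⟩ := s.shortExact (EvalAbs.Hh T I J) S σ
  let S' := HomCx.homSC s.dataL S I
  let τ := HomCx.homSplit s.dataL S σ I
  let τ' := HomCx.homSplit s.dataR S' τ J
  let row₁ := ShortComplex.mk _ _ w
  let row₂ := HomCx.homSC s.dataR S' J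
  have h2 : row₂.ShortExact :=
    HomologicalComplex.shortExact_of_degreewise_shortExact _ fun n => (τ' n).shortExact
  let φ : row₁ ⟶ row₂ :=
    { τ₁ := EvalAbs.κ T α I J S.X₁
      τ₂ := EvalAbs.κ T α I J S.X₂
      τ₃ := EvalAbs.κ T α I J S.X₃
      comm₁₂ := (EvalAbs.κ_natural T α s.h₂ s.h₃ I J S.f).symm
      comm₂₃ := (EvalAbs.κ_natural T α s.h₂ s.h₃ I J S.g).symm }
  exact isIso_first (h1.map_of_exact (EvalLocal.rr R)) (h2.map_of_exact (EvalLocal.rr R))
    ((EvalLocal.rr R).mapShortComplex.map φ) i j hij
    (isZero_homology_of_isLE hl hc) (isZero_homology_of_isLE hl (by omega))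
    (isZero_homology_of_isLE hr hc) (isZero_homology_of_isLE hr (by omega))
    (isIso_homologyMap_of_Q _ hP₃ _)

end Main

end Groth.Lead.EvalInj
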