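import Groth.Agent.L29.DCoh.EvalMain
import Groth.Agent.Lead.EvalInj.Abs
import Groth.Agent.L29.DCoh.RHomInjDim
import Groth.Agent.L29.DCoh.RHomCoh
import Groth.Agent.L29.DCoh.PCNoeth
import Mathlib.Algebra.Homology.HomologySequenceLemmas

/-!
`RHom(L, M) ⊗ K ≅ RHom(RHom(K, L), M)` for pseudo-coherent `K` and bounded injective complexes `L`, `M`.
-/

set_option autoImplicit false
set_option linter.style.haveILetI false
set_option backward.defeqAttrib.useBackward true
set_option backward.isDefEq.respectTransparency false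
set_option backward.isDefEq.respectTransparency.types false

universe u

open CategoryTheory CategoryTheory.Limits AlgebraicGeometry CochainComplex Pretriangulated

attribute [local instance] HasDerivedCategory.standard

noncomputable section

namespace Groth.Lead.EvalInj

open Groth.L00 Groth.L29.DC

variable {X : Scheme.{u}}

theorem injective_res {U : Scheme.{u}} (j : U ⟶ X) [IsOpenImmersion j] (M : X.Modules) [Injective M] :
    Injective ((ExtZero.res j).obj M) := by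
  haveI := ExtZero.preservesFiniteLimits j
  haveI : (CxOX.extZero j).PreservesMonomorphisms := preservesMonomorphisms_of_preservesLimitsOfShape _
  exact Injective.injective_of_adjoint (CxOX.extZeroAdj j) M

theorem isStrictlyGE_res {U : Scheme.{u}} (j : U ⟶ X) [IsOpenImmersion j] (K : CochainComplex X.Modules ℤ)
    (a : ℤ) [K.IsStrictlyGE a] : ((ExtZero.rCx j).obj K).IsStrictlyGE a :=
  (CochainComplex.isStrictlyGE_iff _ _).2 fun i hi =>
    (ExtZero.res j).map_isZero (K.isZero_of_isStrictlyGE a i hi)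

theorem isStrictlyLE_res {U : Scheme.{u}} (j : U ⟶ X) [IsOpenImmersion j] (K : CochainComplex X.Modules ℤ)
    (b : ℤ) [K.IsStrictlyLE b] : ((ExtZero.rCx j).obj K).IsStrictlyLE b :=
  (CochainComplex.isStrictlyLE_iff _ _).2 fun i hi =>
    (ExtZero.res j).map_isZero (K.isZero_of_isStrictlyLE b i hi)

theorem isGE_Q (K : CochainComplex X.Modules ℤ) (a : ℤ) [K.IsStrictlyGE a] : (DCoh.toD X K).IsGE a :=
  (DerivedCategory.isGE_Q_obj_iff _ _).2 inferInstance

theorem isLE_iso {K L : DCoh.D X} (e : K ≅ L) (n : ℤ) (h : K.IsLE n) : L.IsLE n :=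
  (DerivedCategory.isLE_iff L n).2 fun i hi =>
    (DerivedCategory.isZero_of_isLE K n i hi).of_iso ((DerivedCategory.homologyFunctor _ i).mapIso e.symm)

theorem isGE_iso {K L : DCoh.D X} (e : K ≅ L) (n : ℤ) (h : K.IsGE n) : L.IsGE n :=
  (DerivedCategory.isGE_iff L n).2 fun i hi =>
    (DerivedCategory.isZero_of_isGE K n i hi).of_iso ((DerivedCategory.homologyFunctor _ i).mapIso e.symm)

/-- isomorphisms in the derived category are detected degreewise on a cover -/
theorem isIso_Q_of_res {M N : CochainComplex X.Modules ℤ} (f : M ⟶ N)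
    (h : ∀ (j : ℤ) (x : X), ∃ V : X.Opens, x ∈ V ∧
      IsIso (HomologicalComplex.homologyMap ((ExtZero.rCx V.ι).map f) j)) : IsIso (DerivedCategory.Q.map f) := by
  rw [DerivedCategory.isIso_iff]
  intro j
  refine (NatIso.isIso_map_iff (DerivedCategory.homologyFunctorFactors X.Modules j) f).2 ?_
  choose V hV hw using h j
  refine Groth.L21.Mod.isIso_of_restrict_opens V ?_ _ fun x => ?_
  · exact eq_top_iff.2 fun x _ => TopologicalSpace.Opens.mem_iSup.2 ⟨x, hV x⟩
  exact ((MorphismProperty.isomorphisms _).arrow_mk_iso_iff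
    (Arrow.isoMk ((M.sc j).mapHomologyIso (ExtZero.res (V x).ι)) ((N.sc j).mapHomologyIso (ExtZero.res (V x).ι))
      ((ShortComplex.mapHomologyIso_hom_naturality _ _).symm))).1 (hw x)

/-- restrictions of the outer Hom complex are bounded above -/
theorem isLE_res_hom {U : Scheme.{u}} (j : U ⟶ X) [IsOpenImmersion j] (A : CochainComplex X.Modules ℤ)
    (J : CochainComplex X.Modules ℤ) [J.IsKInjective] (aJ b : ℤ) [J.IsStrictlyGE aJ] [J.IsStrictlyLE b]
    (hJ : ∀ i, Injective (J.X i)) (n : ℤ) (hA : (DCoh.toD U ((ExtZero.rCx j).obj A)).IsGE n) :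
    (DCoh.toD U ((ExtZero.rCx j).obj ((HomCx.H (Eval.PhiR X) A).obj J))).IsLE (b - n) := by
  haveI := ExtZero.preservesFiniteLimits j
  haveI := KFlat.hasLTensorCx A
  haveI := RHom.hasRSheafHom A
  haveI := KFlat.hasLTensorCx ((ExtZero.rCx j).obj A)
  haveI := RHom.hasRSheafHom ((ExtZero.rCx j).obj A)
  haveI := isStrictlyGE_res j J aJ
  haveI := isStrictlyLE_res j J b
  have hJU : ∀ i, Injective (((ExtZero.rCx j).obj J).X i) := fun i => haveI := hJ i; injective_res j _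
  obtain ⟨h'⟩ := EvalMain.nonempty_RSheafHom J A
  obtain ⟨t'⟩ := ExtZero.nonempty_res_RSheafHom j A
  exact isLE_iso ((DCoh.RSheafHom ((ExtZero.rCx j).obj A)).mapIso
      ((ExtZero.res j).mapDerivedCategoryFactors.app J).symm ≪≫ (t'.app _).symm ≪≫
    (DCoh.restrictD j).mapIso h'.symm ≪≫ (ExtZero.res j).mapDerivedCategoryFactors.app _) _
    (RHomInjDim.isLE_RSheafHom ((ExtZero.rCx j).obj A) n hA ((ExtZero.rCx j).obj J) hJU aJ b)

variable (I J : CochainComplex X.Modules ℤ) [I.IsKInjective] [J.IsKInjective] (a b aJ : ℤ)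
  [I.IsStrictlyGE a] [J.IsStrictlyGE aJ] [J.IsStrictlyLE b]
  (hI : ∀ i, Injective (I.X i)) (hJ : ∀ i, Injective (J.X i))

local notation "Hom₀" => EvalAbs.Hh (Eval.PhiL X) I J

include a b aJ hI hJ in
/-- both sides of the evaluation map are small on a complex which is small on the open -/
theorem isLE_sides {U : Scheme.{u}} (j : U ⟶ X) [IsOpenImmersion j] (C : CochainComplex X.Modules ℤ)
    (hC : DCoh.IsKFlat C) (c : ℤ) (hc : (DCoh.toD U ((ExtZero.rCx j).obj C)).IsLE c) :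
    (DCoh.toD U ((ExtZero.rCx j).obj (((Eval.PhiL X).obj Hom₀).obj C))).IsLE (b - a + c) ∧
    (DCoh.toD U ((ExtZero.rCx j).obj ((HomCx.H (Eval.PhiR X) (EvalAbs.A (Eval.PhiL X) I C)).obj J))).IsLE
      (b - a + c) := by
  haveI := ExtZero.preservesFiniteLimits j
  let r := ExtZero.rCx j
  let Hh := EvalAbs.Hh (Eval.PhiL X) I J
  let A := EvalAbs.A (Eval.PhiL X) I C
  haveI := isStrictlyGE_res j I a
  haveI := isStrictlyGE_res j J aJ
  haveI := isStrictlyLE_res j J b
  have hIU : ∀ i, Injective ((r.obj I).X i) := fun i => haveI := hI i; injective_res j _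
  have hJU : ∀ i, Injective ((r.obj J).X i) := fun i => haveI := hJ i; injective_res j _
  haveI := KFlat.hasLTensorCx I
  haveI := RHom.hasRSheafHom I
  haveI := KFlat.hasLTensorCx C
  haveI := RHom.hasRSheafHom C
  haveI := KFlat.hasLTensorCx A
  haveI := RHom.hasRSheafHom A
  haveI := KFlat.hasLTensorCx (r.obj C)
  haveI := RHom.hasRSheafHom (r.obj C)
  haveI := KFlat.hasLTensorCx (r.obj A)
  haveI := RHom.hasRSheafHom (r.obj A)
  let q := fun (M : CochainComplex X.Modules ℤ) => (ExtZero.res j).mapDerivedCategoryFactors.app M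
  constructor
  · obtain ⟨h⟩ := EvalMain.nonempty_RSheafHom J I
    have hH : (DCoh.toD X Hh).IsLE (b - a) :=
      isLE_iso h.symm _ (RHomInjDim.isLE_RSheafHom I a (isGE_Q I a) J hJ aJ b)
    have hHU : (DCoh.toD U (r.obj Hh)).IsLE (b - a) := isLE_iso (q Hh) _ ((DerivedCategory.isLE_iff _ _).2 fun i hi =>
      ((ExtZero.res j).map_isZero (DerivedCategory.isZero_of_isLE (DCoh.toD X Hh) (b - a) i hi)).of_iso
        (HDResIso j (DCoh.toD X Hh) i))
    exact isLE_iso ((Assoc.allIso (r.obj C) (isKFlat_restrict j hC)).app (r.obj Hh) ≪≫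
        DerivedCategory.Q.mapIso (restrictTensorCxIso j Hh C)) _
      (RHom.isLE_LTensorCx (r.obj C) c hc _ (b - a) hHU)
  · obtain ⟨h⟩ := EvalMain.nonempty_RSheafHom I C
    obtain ⟨t⟩ := ExtZero.nonempty_res_RSheafHom j C
    let eA : DCoh.toD U (r.obj A) ≅ (DCoh.RSheafHom (r.obj C)).obj (DCoh.toD U (r.obj I)) :=
      (q A).symm ≪≫ (DCoh.restrictD j).mapIso (DerivedCategory.Q.mapIso ((EvalMain.hIso C).app I) ≪≫ h) ≪≫
        t.app _ ≪≫ (DCoh.RSheafHom (r.obj C)).mapIso (q I)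
    have hA : (DCoh.toD U (r.obj A)).IsGE (a - c) :=
      isGE_iso eA.symm _ (RHom.isGE_RSheafHom (r.obj C) c hc _ a (isGE_Q (r.obj I) a))
    have h2 := isLE_res_hom j (EvalAbs.A (Eval.PhiL X) I C) J aJ b hJ (a - c) hA
    rwa [show b - (a - c) = b - a + c by ring] at h2

include hI hJ a b aJ in
/-- the evaluation map out of a pseudo-coherent complex is a quasi-isomorphism -/
theorem isIso_Q_κ {K : CochainComplex X.Modules ℤ} (hK : DCoh.IsKFlat K)
    (hKp : ∀ m : ℤ, DCoh.IsPseudoCoherentD m (DCoh.toD X K)) :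
    IsIso (DerivedCategory.Q.map
      (EvalAbs.κ (Eval.PhiL X) (fun K L => Assoc.assocFunctor K L) I J K)) := by
  refine isIso_Q_of_res _ fun j x => ?_
  let c := j - 2 - (b - a)
  obtain ⟨V, hV, hw⟩ := hKp (c + 1) x
  refine ⟨V, hV, ?_⟩
  haveI := ExtZero.preservesFiniteLimits V.ι
  let r := ExtZero.rCx V.ι
  obtain ⟨E, α, hE, hα₁, hα₂⟩ := hw K ⟨Iso.refl _⟩
  obtain ⟨R, s, hs, g₀, hg⟩ := DerivedCategory.right_fac α
  haveI := hs
  haveI : QuasiIso s := (DerivedCategory.isIso_Q_map_iff_quasiIso _ s).1 hs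
  haveI := KFlat.quasiIso_rF R
  let R' := (KFlat.RF _).obj R
  let ρ : R' ⟶ R := (KFlat.rF _).app R
  haveI : QuasiIso ρ := KFlat.quasiIso_rF R
  have hR' : DCoh.IsKFlat R' := KFlat.isKFlat_RF R
  let g' : R' ⟶ r.obj K := ρ ≫ g₀
  have hA : Approx (DerivedCategory.Q.map g') (c + 1) := by
    have h0 : DerivedCategory.Q.map g' = DerivedCategory.Q.map (ρ ≫ s) ≫ α := by
      rw [Functor.map_comp, Functor.map_comp, Category.assoc, hg, IsIso.hom_inv_id_assoc]
    rw [h0]
    haveI : IsIso (DerivedCategory.Q.map (ρ ≫ s)) := (DerivedCategory.isIso_Q_map_iff_quasiIso _ _).2 inferInstance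
    exact (Approx.of_isIso _ _).comp ⟨hα₁, hα₂⟩
  let g : (ExtZero.eCx V.ι).obj R' ⟶ K := ((ExtZero.adjCx V.ι).homEquiv R' K).symm g'
  have hg' : (ExtZero.adjCx V.ι).unit.app R' ≫ r.map g = g' := by
    exact (((ExtZero.adjCx V.ι).homEquiv_unit R' K g).symm).trans (Equiv.apply_symm_apply _ _)
  have hC : (DCoh.toD _ (r.obj (mappingCone g))).IsLE c := by
    have h1 : Approx (DerivedCategory.Q.map (r.map g)) (c + 1) := by
      have h2 : DerivedCategory.Q.map (r.map g) =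
          inv (DerivedCategory.Q.map ((ExtZero.adjCx V.ι).unit.app R')) ≫ DerivedCategory.Q.map g' := by
        rw [← hg', Functor.map_comp, IsIso.inv_hom_id_assoc]
      rw [h2]
      exact (Approx.of_isIso _ _).comp hA
    have h3 := (approx_Q_map_iff (r.map g) (c + 1)).1 h1
    rw [add_sub_cancel_right] at h3
    exact isLE_iso (DerivedCategory.Q.mapIso
      (mappingCone.mapHomologicalComplexIso g (ExtZero.res V.ι))).symm c h3
  have heK : DCoh.IsKFlat ((ExtZero.eCx V.ι).obj R') := ExtZero.isKFlat_eCx _ hR'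
  have hP : EvalMain.Pκ I J V.ι ((ExtZero.eCx V.ι).obj R') := by
    haveI : IsIso (DerivedCategory.Q.map (ρ ≫ s)) := (DerivedCategory.isIso_Q_map_iff_quasiIso _ _).2 inferInstance
    haveI : QuasiIso (ρ ≫ s) := (DerivedCategory.isIso_Q_map_iff_quasiIso _ _).1 inferInstance
    obtain ⟨p, q, hv⟩ := hE.1
    exact (EvalPerf.iff_map (EvalMain.locProp_κ I J) V.ι hR' (isKFlat_of_isStrictlyPerfect hE) (ρ ≫ s)).2
      (EvalPerf.bounded (EvalMain.locProp_κ I J) V.ι ((q - p).toNat + 1) E p q (by omega) hv hE.2)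
  obtain ⟨hl, hr⟩ := isLE_sides I J a b aJ hI hJ V.ι (mappingCone g) (KFlat.isKFlat_cone g heK hK) c hC
  exact isIso_homologyMap_κ (CxOX.extZeroAdj V.ι) (Eval.setting V.ι) I J g heK hP (b - a + c) (j - 1) j
    (by omega) (by omega) hl hr

/-- evaluation into bounded complexes of injectives -/
theorem nonempty_eval_inj {X : Scheme.{u}} [IsNoetherian X] (K L I D : CochainComplex X.Modules ℤ)
    [DCoh.HasLTensorCx K] [DCoh.HasRSheafHom K] [DCoh.HasLTensorCx L] [DCoh.HasRSheafHom L]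
    [DCoh.HasLTensorCx D] [DCoh.HasRSheafHom D]
    (hKcoh : ∀ i, Coh.IsCoh (DCoh.HD (DCoh.toD X K) i))
    (hKbdd : ∃ a b : ℤ, ∀ i : ℤ, (i < a ∨ b < i) → IsZero (DCoh.HD (DCoh.toD X K) i))
    (hL : ∀ i, Injective (L.X i)) (hLb : ∃ a b : ℤ, ∀ i : ℤ, (i < a ∨ b < i) → IsZero (L.X i))
    (hI : ∀ i, Injective (I.X i)) (hIb : ∃ a b : ℤ, ∀ i : ℤ, (i < a ∨ b < i) → IsZero (I.X i))
    (hD : Nonempty (DCoh.toD X D ≅ (DCoh.RSheafHom K).obj (DCoh.toD X L))) :
    Nonempty ((DCoh.LTensorCx K).obj ((DCoh.RSheafHom L).obj (DCoh.toD X I)) ≅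
      (DCoh.RSheafHom D).obj (DCoh.toD X I)) := by
  obtain ⟨a₀, b₀, hK₀⟩ := hKbdd
  obtain ⟨a, b', hLz⟩ := hLb
  obtain ⟨aJ, b, hIz⟩ := hIb
  haveI : L.IsStrictlyGE a := (L.isStrictlyGE_iff a).2 fun i hi => hLz i (Or.inl hi)
  haveI : I.IsStrictlyGE aJ := (I.isStrictlyGE_iff aJ).2 fun i hi => hIz i (Or.inl hi)
  haveI : I.IsStrictlyLE b := (I.isStrictlyLE_iff b).2 fun i hi => hIz i (Or.inr hi)
  haveI : ∀ n, Injective (L.X n) := hL
  haveI : ∀ n, Injective (I.X n) := hI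
  haveI : L.IsKInjective := CochainComplex.isKInjective_of_injective L a
  haveI : I.IsKInjective := CochainComplex.isKInjective_of_injective I aJ
  let R := (KFlat.RF X).obj K
  let q : R ⟶ K := (KFlat.rF X).app K
  haveI : QuasiIso q := KFlat.quasiIso_rF K
  haveI := KFlat.hasLTensorCx R
  haveI := RHom.hasRSheafHom R
  let e : DCoh.toD X R ≅ DCoh.toD X K := asIso (DerivedCategory.Q.map q)
  have hp : ∀ m : ℤ, DCoh.IsPseudoCoherentD m (DCoh.toD X R) := fun m => by
    have hpK : DCoh.IsPseudoCoherentD m (DCoh.toD X K) :=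
      (PCNoeth.pc_iff _ (fun i => (hKcoh i).1) m).2 ⟨fun i _ => hKcoh i, b₀,
        ((DCoh.toD X K).isLE_iff b₀).2 fun i hi => hK₀ i (Or.inr hi)⟩
    exact isPseudoCoherentD_of_iso e.symm hpK
  obtain ⟨t⟩ := RHom.nonempty_lt_iso e
  obtain ⟨r⟩ := EvalMain.nonempty_RSheafHom_iso e
  obtain ⟨d⟩ := hD
  let A := EvalAbs.A (Eval.PhiL X) L R
  haveI := KFlat.hasLTensorCx A
  haveI := RHom.hasRSheafHom A
  haveI := isIso_Q_κ L I a b aJ hL hI (KFlat.isKFlat_RF K) hp
  obtain ⟨u⟩ := EvalMain.nonempty_RSheafHom I L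
  obtain ⟨v⟩ := EvalMain.nonempty_RSheafHom I A
  obtain ⟨c⟩ := EvalMain.nonempty_RSheafHom L R
  let eA : DCoh.toD X A ≅ DCoh.toD X D :=
    DerivedCategory.Q.mapIso ((EvalMain.hIso R).app L) ≪≫ c ≪≫ r.app _ ≪≫ d.symm
  obtain ⟨f⟩ := EvalMain.nonempty_RSheafHom_iso eA
  exact ⟨(t.app _).symm ≪≫ (DCoh.LTensorCx R).mapIso u.symm ≪≫
    (Assoc.allIso R (KFlat.isKFlat_RF K)).app _ ≪≫
    asIso (DerivedCategory.Q.map (EvalAbs.κ (Eval.PhiL X) (fun K L => Assoc.assocFunctor K L) L I R)) ≪≫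
    v ≪≫ f.app _⟩

end Groth.Lead.EvalInj
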